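import Cfsg.Agent.Lib.Helper69.UniA1
import Cfsg.Agent.Lib.Helper19.UniA3
import Cfsg.Agent.Lib.Helper74.UniA4

/-! # S2314 hive: UNI-A5 `top_sum` (helper6) -/

set_option autoImplicit false

namespace Cfsg.Agent.Lib.Helper6.Uni

open Cfsg Cfsg.Agent.Lib.Helper6 Cfsg.Agent.Lib.Helper6.St

universe u

section A
variable {L : Type u} [Group L] [Fintype L]

theorem a5_isPElt_of_mem (p : ℕ) [Fact p.Prime] (U : Subgroup L) (hUp : IsPGroup p U) {g : L} (hg : g ∈ U) :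
    IsPElt p g := by
  obtain ⟨k, hk⟩ := (IsPGroup.iff_orderOf.1 hUp) ⟨g, hg⟩
  refine ⟨k, ?_⟩
  rw [← hk]
  exact (Subgroup.orderOf_mk g hg).symm

/-- UNI-A5 (assembly of A1, A3, A4). -/
theorem top_sum (Q : Cfsg.BNPair L) (T : Finset L) (hT : (↑T : Set L) = Q.S) (p : ℕ) [Fact p.Prime]
    (U V : Subgroup L) [V.Normal]
    (hUB : U ≤ Q.B) (hUp : IsPGroup p U) (hUn : Q.B ≤ Subgroup.normalizer (U : Set L)) (hUH : U ⊔ (Q.B ⊓ Q.N) = Q.B)
    (hUs : ¬ p ∣ U.index) (hVU : V ≤ U) (n1 : L) (hn1 : n1 ∈ Q.N)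
    (hbig : Nat.card U * Nat.card Q.B ≤ Nat.card V * Nat.card (C Q n1)) :
    ∑ J ∈ T.powerset, (-1 : ℂ) ^ J.card *
        (((Q.parabolic (↑J : Set L)).index : ℂ) * (npe p (Q.parabolic (↑J : Set L)) : ℂ)) =
      (Nat.card U : ℂ) := by
  classical
  obtain ⟨hdeg, hvan⟩ := stChar_pElt Q T hT p U V hUB hUp hUn hUH hUs hVU n1 hn1 hbig
  have h1 : ∑ g ∈ pElts p L, stChar Q T g = ∑ J ∈ T.powerset, (-1 : ℂ) ^ J.card *
      (((Q.parabolic (↑J : Set L)).index : ℂ) * (npe p (Q.parabolic (↑J : Set L)) : ℂ)) := by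
    unfold stChar
    rw [Finset.sum_comm]
    apply Finset.sum_congr rfl
    intro J _
    rw [← Finset.mul_sum, sum_fpc]
  have h3 : ∀ g ∈ pElts p L, stChar Q T g = if g ∈ V then stChar Q T 1 else 0 := by
    intro g hg
    split_ifs with hgV
    · have := stChar_mul_mem Q T V (hVU.trans hUB) 1 g hgV
      simpa using this
    · exact hvan g (mem_pElts.1 hg) hgV
  have h4 : ((pElts p L).filter (fun g => g ∈ V)).card = Nat.card V := by
    rw [Nat.card_eq_fintype_card, ← Fintype.card_coe]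
    apply Fintype.card_congr
    refine
      { toFun := fun g => ⟨g.1, (Finset.mem_filter.1 g.2).2⟩
        invFun := fun g => ⟨g.1, Finset.mem_filter.2 ⟨mem_pElts.2 (a5_isPElt_of_mem p U hUp (hVU g.2)), g.2⟩⟩
        left_inv := fun g => rfl
        right_inv := fun g => rfl }
  have h2 : ∑ g ∈ pElts p L, stChar Q T g = (Nat.card U : ℂ) := by
    rw [Finset.sum_congr rfl h3, Finset.sum_ite, Finset.sum_const_zero, add_zero, Finset.sum_const, nsmul_eq_mul,
      h4, mul_comm, hdeg]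
  rw [← h1, h2]

end A

end Cfsg.Agent.Lib.Helper6.Uni
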