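import Cfsg.Agent.Lib.Helper36.ChevW0c

/-! # S2314 hive, leaf UNI-C1 (backup by helper6): the longest word of `W_J` by a greedy computation -/

set_option autoImplicit false
set_option maxRecDepth 100000

namespace Cfsg.Agent.Lib.Helper6.Uni

open Cfsg Cfsg.Lie Cfsg.Agent.Lib.Helper36

/-- update of the table `k ↦ w(e_k)` when `w` is replaced by `w s_j` -/
def c1_upd (n : ℕ) (cm : List (List ℤ)) (j : ℕ) (M : List (List ℤ)) : List (List ℤ) :=
  (List.range n).map fun k =>
    List.zipWith (fun a b => a - (cm.getD j []).getD k 0 * b) (M.getD k []) (M.getD j [])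

/-- the greedy construction of the longest word of `W_J` -/
def c1_greedy (n : ℕ) (cm : List (List ℤ)) (J : List ℕ) : ℕ → List ℕ × List (List ℤ) → List ℕ × List (List ℤ)
  | 0, st => st
  | fuel + 1, st =>
    match J.find? (fun j => (st.2.getD j []).any fun z => decide (0 < z)) with
    | some j => c1_greedy n cm J fuel (st.1 ++ [j], c1_upd n cm j st.2)
    | none => st

/-- the greedy word for the subset `J` -/
def c1_word (D : ChevalleyDatum) (J : List ℕ) : List ℕ :=
  (c1_greedy D.rank (cmatF D) J (D.nroots / 2 + 1) ([], (List.range D.rank).map (unitVec D.rank))).1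

/-- the Boolean check -/
def c1_chk (D : ChevalleyDatum) : Bool :=
  (List.range D.rank).sublists.all fun J =>
    ((c1_word D J).all fun i => J.contains i) &&
    J.all fun j => (wordVec D.rank (cmatF D) (c1_word D J) (unitVec D.rank j)).all fun z => decide (z ≤ 0)

theorem c1_chk_G2 : c1_chk chevG2 = true := by decide +kernel
theorem c1_chk_B2 : c1_chk chevB2 = true := by decide +kernel
theorem c1_chk_D4 : c1_chk chevD4 = true := by decide +kernel
theorem c1_chk_F4 : c1_chk chevF4 = true := by decide +kernel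
theorem c1_chk_E6 : c1_chk chevE6 = true := by decide +kernel
theorem c1_chk_E7 : c1_chk chevE7 = true := by decide +kernel
theorem c1_chk_E8 : c1_chk chevE8 = true := by decide +kernel

theorem c1_chk_all (D : ChevalleyDatum) (hD : D ∈ [chevG2, chevB2, chevD4, chevF4, chevE6, chevE7, chevE8]) :
    c1_chk D = true :=
  seven_cases (P := fun D => c1_chk D = true) D hD c1_chk_G2 c1_chk_B2 c1_chk_D4 c1_chk_F4 c1_chk_E6
    c1_chk_E7 c1_chk_E8

variable (D : ChevalleyDatum) (hD : D ∈ [chevG2, chevB2, chevD4, chevF4, chevE6, chevE7, chevE8])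

include hD in
/-- UNI-C1. -/
theorem exists_wJ (J : Finset ℕ) (hJ : J ⊆ Finset.range D.rank) :
    ∃ l : List ℕ, (∀ i ∈ l, i ∈ J) ∧ ∀ j ∈ J, ∀ k < D.rank, wordFun D l (unitFun j) k ≤ 0 := by
  classical
  have h := c1_chk_all D hD
  unfold c1_chk at h
  rw [List.all_eq_true] at h
  set JL : List ℕ := (List.range D.rank).filter (fun i => decide (i ∈ J)) with hJL
  have hmem : JL ∈ (List.range D.rank).sublists := by
    rw [List.mem_sublists]
    exact List.filter_sublist
  have hJLiff : ∀ i, i ∈ JL ↔ i ∈ J := by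
    intro i
    rw [hJL, List.mem_filter, List.mem_range, decide_eq_true_eq]
    constructor
    · exact fun h => h.2
    · exact fun h => ⟨Finset.mem_range.1 (hJ h), h⟩
  have h2 := h JL hmem
  rw [Bool.and_eq_true, List.all_eq_true, List.all_eq_true] at h2
  obtain ⟨h3, h4⟩ := h2
  have hl : ∀ i ∈ c1_word D JL, i ∈ J := by
    intro i hi
    have := h3 i hi
    rw [List.contains_iff_mem] at this
    exact (hJLiff i).1 this
  have hlr : ∀ i ∈ c1_word D JL, i < D.rank := fun i hi => Finset.mem_range.1 (hJ (hl i hi))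
  refine ⟨c1_word D JL, hl, fun j hj k hk => ?_⟩
  have h5 := h4 j ((hJLiff j).2 hj)
  rw [unitVec_eq, wordVec_toList D hD _ hlr] at h5
  exact all_toList D.rank _ h5 k hk

end Cfsg.Agent.Lib.Helper6.Uni
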