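import Cfsg.Agent.Lib.Helper6.St.Main2

/-! # Steinberg's count of `p`-elements in a group with a split (B,N)-pair: definitions (helper6, S2314 hive) -/

set_option autoImplicit false

namespace Cfsg.Agent.Lib.Helper6.Uni

open Cfsg Cfsg.Agent.Lib.Helper6 Cfsg.Agent.Lib.Helper6.St

universe u

variable {G : Type u} [Group G]

/-- `g` has `p`-power order -/
def IsPElt (p : ℕ) (g : G) : Prop := ∃ k : ℕ, orderOf g = p ^ k

/-- the number of elements of `p`-power order of the subgroup `K` -/
noncomputable def npe (p : ℕ) (K : Subgroup G) : ℕ := Nat.card {g : G // g ∈ K ∧ IsPElt p g}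

open Classical in
/-- the finset of the elements of `p`-power order -/
noncomputable def pElts (p : ℕ) (L : Type u) [Group L] [Fintype L] : Finset L :=
  Finset.univ.filter (fun g => IsPElt p g)

theorem mem_pElts {p : ℕ} {L : Type u} [Group L] [Fintype L] {g : L} : g ∈ pElts p L ↔ IsPElt p g := by
  classical
  unfold pElts
  simp

/-- the subgroup `B` of the restricted (B,N)-pair of the parabolic subgroup `P_J` -/
def rB (P : Cfsg.BNPair G) (J : Set G) : Subgroup ↥(P.parabolic J) := P.B.subgroupOf (P.parabolic J)

/-- the subgroup `N_J = ⟨J⟩ (B ⊓ N)` of the restricted (B,N)-pair of the parabolic subgroup `P_J` -/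
def rN (P : Cfsg.BNPair G) (J : Set G) : Subgroup ↥(P.parabolic J) :=
  (Subgroup.closure J ⊔ (P.B ⊓ P.N)).subgroupOf (P.parabolic J)

/-- the distinguished generators of the restricted (B,N)-pair of the parabolic subgroup `P_J` -/
def rS (P : Cfsg.BNPair G) (J : Set G) : Set ↥(P.parabolic J) := {x | (x : G) ∈ J}

end Cfsg.Agent.Lib.Helper6.Uni
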