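import Cfsg.Agent.Lib.Helper10.UniR6
import Cfsg.Agent.Lib.Helper17.UniM
import Cfsg.Agent.Lib.Helper74.UniA4

/-! # S2314 hive: UNI-F `card_pElts_top` (helper6) -/

set_option autoImplicit false

namespace Cfsg.Agent.Lib.Helper6.Uni

open Cfsg Cfsg.Agent.Lib.Helper6 Cfsg.Agent.Lib.Helper6.St

universe u

section F
variable {G : Type u} [Group G] [Fintype G]

omit [Fintype G] in
theorem f_relIndex_mul_card [Finite G] {H K : Subgroup G} (hHK : H ≤ K) :
    H.relIndex K * Nat.card H = Nat.card K := by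
  have h := (H.subgroupOf K).card_mul_index
  rw [Nat.card_congr (Subgroup.subgroupOfEquivOfLe hHK).toEquiv] at h
  rw [Subgroup.relIndex, mul_comm]
  exact h

/-- UNI-F: **Steinberg's count**, abstract form. -/
theorem card_pElts_top (P : Cfsg.BNPair G) (T : Finset G) (hT : (↑T : Set G) = P.S) (p : ℕ) [Fact p.Prime]
    (U : Subgroup G)
    (hUB : U ≤ P.B) (hUp : IsPGroup p U) (hUn : P.B ≤ Subgroup.normalizer (U : Set G))
    (hUH : U ⊔ (P.B ⊓ P.N) = P.B) (hUs : ¬ p ∣ U.index)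
    (V : Finset G → Subgroup G) (n1 : Finset G → G)
    (hV : ∀ J ⊆ T, V J ≤ U ∧ P.parabolic (↑J : Set G) ≤ Subgroup.normalizer (V J : Set G) ∧
      n1 J ∈ Subgroup.closure (↑J : Set G) ⊔ (P.B ⊓ P.N) ∧
      Nat.card U * Nat.card P.B ≤ Nat.card (V J) * Nat.card (C P (n1 J)))
    (hVT : V T = ⊥) :
    Nat.card {g : G // ∃ k : ℕ, orderOf g = p ^ k} = Nat.card U ^ 2 := by
  classical
  set c : Finset G → ℂ := fun K => (Nat.card (P.parabolic (↑K : Set G)) : ℂ) with hc
  set a : Finset G → ℂ := fun K => (npe p (P.parabolic (↑K : Set G)) : ℂ) with ha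
  have hc0 : ∀ K, c K ≠ 0 := by
    intro K
    have : 0 < Nat.card (P.parabolic (↑K : Set G)) := Nat.card_pos
    show ((Nat.card (P.parabolic (↑K : Set G)) : ℕ) : ℂ) ≠ 0
    exact_mod_cast this.ne'
  have hrel : ∀ K J : Finset G, K ⊆ J →
      (((P.parabolic (↑K : Set G)).relIndex (P.parabolic (↑J : Set G)) : ℕ) : ℂ) = c J / c K := by
    intro K J hKJ
    rw [eq_div_iff (hc0 K)]
    have := f_relIndex_mul_card (parabolic_mono (P := P) (Finset.coe_subset.2 hKJ))
    show (((P.parabolic (↑K : Set G)).relIndex (P.parabolic (↑J : Set G)) : ℕ) : ℂ) *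
      ((Nat.card (P.parabolic (↑K : Set G)) : ℕ) : ℂ) = ((Nat.card (P.parabolic (↑J : Set G)) : ℕ) : ℂ)
    exact_mod_cast this
  have hE : ∀ J ⊆ T, ∑ K ∈ J.powerset, (-1 : ℂ) ^ K.card * (c J / c K * a K) = (Nat.card U : ℂ) := by
    intro J hJ
    obtain ⟨h1, h2, h3, h4⟩ := hV J hJ
    rw [← eqn_J P T hT p U hUB hUp hUn hUH hUs J hJ (V J) h1 h2 (n1 J) h3 h4]
    apply Finset.sum_congr rfl
    intro K hK
    rw [hrel K J (Finset.mem_powerset.1 hK)]
  have hM := mobius_solve T c a (Nat.card U : ℂ) (fun K _ => hc0 K) hE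
  -- the top parabolic
  have hTop : P.parabolic (↑T : Set G) = ⊤ := by rw [hT]; exact parabolic_S
  have hidx : ∀ K : Finset G, c T / c K = ((P.parabolic (↑K : Set G)).index : ℂ) := by
    intro K
    rw [div_eq_iff (hc0 K)]
    have h := (P.parabolic (↑K : Set G)).card_mul_index
    have h2 : Nat.card (P.parabolic (↑T : Set G)) = Nat.card G := by
      rw [hTop]; exact Subgroup.card_top
    rw [hc]
    simp only
    rw [h2, ← h]
    push_cast
    ring
  have hSt : ∑ K ∈ T.powerset, (-1 : ℂ) ^ K.card * (c T / c K) = stChar P T 1 := by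
    unfold stChar
    apply Finset.sum_congr rfl
    intro K _
    rw [hidx K, fixedPointCharacter_one]
  -- the degree of the Steinberg character
  obtain ⟨-, -, h3, h4⟩ := hV T subset_rfl
  rw [hVT] at h4
  have hn1 : n1 T ∈ P.N := by
    have hle : Subgroup.closure (↑T : Set G) ⊔ (P.B ⊓ P.N) ≤ P.N := by
      rw [hT]
      exact sup_le (closure_le_N subset_rfl) inf_le_right
    exact hle h3
  have hdeg := (stChar_pElt P T hT p U ⊥ hUB hUp hUn hUH hUs bot_le (n1 T) hn1 h4).1
  rw [Subgroup.card_bot, Nat.cast_one, mul_one] at hdeg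
  rw [hSt, hdeg] at hM
  -- conclusion
  have hnpe : Nat.card {g : G // ∃ k : ℕ, orderOf g = p ^ k} = npe p (P.parabolic (↑T : Set G)) := by
    unfold npe
    apply Nat.card_congr
    rw [hTop]
    exact
      { toFun := fun g => ⟨g.1, Subgroup.mem_top _, g.2⟩
        invFun := fun g => ⟨g.1, g.2.2⟩
        left_inv := fun g => rfl
        right_inv := fun g => rfl }
  rw [hnpe]
  have : ((npe p (P.parabolic (↑T : Set G)) : ℕ) : ℂ) = ((Nat.card U ^ 2 : ℕ) : ℂ) := by
    rw [show ((npe p (P.parabolic (↑T : Set G)) : ℕ) : ℂ) = a T from rfl, hM]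
    push_cast
    ring
  exact_mod_cast this

end F

end Cfsg.Agent.Lib.Helper6.Uni
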