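import Cfsg.Agent.Lib.Helper10.UniR1

/-! # S2314 hive: the restricted (B,N)-pair of a parabolic subgroup (helper6; existence = UNI-R1 by helper10) -/

set_option autoImplicit false

namespace Cfsg.Agent.Lib.Helper6.Uni

open Cfsg Cfsg.Agent.Lib.Helper6 Cfsg.Agent.Lib.Helper6.St

universe u

variable {G : Type u} [Group G]

/-- the restricted (B,N)-pair -/
noncomputable def restrict (P : Cfsg.BNPair G) (J : Set G) (hJ : J ⊆ P.S) : Cfsg.BNPair ↥(P.parabolic J) :=
  Classical.choose (exists_restrict P J hJ)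

theorem restrict_B (P : Cfsg.BNPair G) (J : Set G) (hJ : J ⊆ P.S) : (restrict P J hJ).B = rB P J :=
  (Classical.choose_spec (exists_restrict P J hJ)).1

theorem restrict_N (P : Cfsg.BNPair G) (J : Set G) (hJ : J ⊆ P.S) : (restrict P J hJ).N = rN P J :=
  (Classical.choose_spec (exists_restrict P J hJ)).2.1

theorem restrict_S (P : Cfsg.BNPair G) (J : Set G) (hJ : J ⊆ P.S) : (restrict P J hJ).S = rS P J :=
  (Classical.choose_spec (exists_restrict P J hJ)).2.2

end Cfsg.Agent.Lib.Helper6.Uni
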